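import Mathlib.RingTheory.FinitePresentation
import Mathlib.RingTheory.Finiteness.ModuleFinitePresentation
import Mathlib.RingTheory.Localization.Away.Basic
import Mathlib.Algebra.Module.FinitePresentation
import Mathlib.RingTheory.Spectrum.Prime.Basic
import Mathlib.RingTheory.Localization.Ideal

/-! Retractions of square-zero extensions of finite presentation which exist locally. -/

set_option autoImplicit false

universe u

namespace Groth.Agent.Lift56

variable {A E : Type u} [CommRing A] [CommRing E] [Algebra A E] (I : Ideal A) (N : Ideal E)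

/-- Local retraction on `D(g)`. -/
def RetractsAt (g : A) : Prop :=
  ∃ ψ : E →ₐ[A] Localization.Away g,
    ∀ n ∈ N, ψ n ∈ I.map (algebraMap A (Localization.Away g))

theorem exists_retraction (hs : ∀ e : E, ∃ a : A, e - algebraMap A E a ∈ N)
    (hbase : ∀ a : A, algebraMap A E a ∈ N ↔ a ∈ I) (hN : N ^ 2 = ⊥) (hI : I ^ 2 = ⊥)
    (hfp : (Ideal.quotientMap (I.map (algebraMap A E)) (algebraMap A E) Ideal.le_comap_map).FinitePresentation)
    (hloc : ∀ p : Ideal A, p.IsPrime → ∃ g : A, g ∉ p ∧ RetractsAt I N g) :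
    ∃ r : E →ₐ[A] A, ∀ e : E, e - algebraMap A E (r e) ∈ N := by
  classical
  have hNN : ∀ x ∈ N, ∀ y ∈ N, x * y = 0 := fun x hx y hy => by
    rw [← Ideal.mem_bot, ← hN, sq]; exact Ideal.mul_mem_mul hx hy
  have hII : ∀ x ∈ I, ∀ y ∈ I, x * y = 0 := fun x hx y hy => by
    rw [← Ideal.mem_bot, ← hI, sq]; exact Ideal.mul_mem_mul hx hy
  have hIN : ∀ x ∈ I, algebraMap A E x ∈ N := fun x hx => (hbase x).2 hx
  -- `IE` is the image of `I`
  have hIE : ∀ x ∈ I.map (algebraMap A E), ∃ i ∈ I, algebraMap A E i = x := by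
    intro x hx
    rw [Ideal.map] at hx
    induction hx using Submodule.span_induction with
    | mem _ h => obtain ⟨i, hi, rfl⟩ := h; exact ⟨i, hi, rfl⟩
    | zero => exact ⟨0, zero_mem _, map_zero _⟩
    | add _ _ _ _ h h' =>
      obtain ⟨i, hi, rfl⟩ := h
      obtain ⟨j, hj, rfl⟩ := h'
      exact ⟨i + j, add_mem hi hj, map_add _ _ _⟩
    | smul e _ _ h =>
      obtain ⟨i, hi, rfl⟩ := h
      obtain ⟨a, ha⟩ := hs e
      refine ⟨a * i, I.mul_mem_left _ hi, ?_⟩
      rw [map_mul, smul_eq_mul, ← sub_eq_zero, ← hNN _ (N.neg_mem ha) _ (hIN i hi)]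
      ring
  let mkE := Ideal.Quotient.mk (I.map (algebraMap A E))
  letI : Algebra (A ⧸ I) (E ⧸ I.map (algebraMap A E)) :=
    (Ideal.quotientMap (I.map (algebraMap A E)) (algebraMap A E) Ideal.le_comap_map).toAlgebra
  have hfp' : Algebra.FinitePresentation (A ⧸ I) (E ⧸ I.map (algebraMap A E)) := hfp
  have halg : ∀ a : A, algebraMap (A ⧸ I) (E ⧸ I.map (algebraMap A E)) (Ideal.Quotient.mk I a) =
      mkE (algebraMap A E a) := fun a => Ideal.quotientMap_mk
  -- generators in `N`
  obtain ⟨t, ht⟩ := (Algebra.FiniteType.of_finitePresentation (R := A ⧸ I) (A := E ⧸ I.map (algebraMap A E))).1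
  let ι := {x // x ∈ t}
  choose lft hlft using fun x : ι => Ideal.Quotient.mk_surjective (x : E ⧸ I.map (algebraMap A E))
  choose al hal using fun x : ι => hs (lft x)
  let k : ι → E := fun x => lft x - algebraMap A E (al x)
  let φ : (Option ι → A ⧸ I) →ₗ[A ⧸ I] (E ⧸ I.map (algebraMap A E)) :=
    Fintype.linearCombination (A ⧸ I) (fun o => o.elim 1 fun x => mkE (k x))
  have hφval : ∀ v : Option ι → A, φ (fun o => Ideal.Quotient.mk I (v o)) =
      mkE (algebraMap A E (v none) + ∑ x, algebraMap A E (v (some x)) * k x) := by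
    intro v
    simp only [φ, Fintype.linearCombination_apply, Fintype.sum_option, Option.elim_none, Option.elim_some,
      Algebra.smul_def, halg, mul_one, map_add, map_sum, map_mul]
  have hspan : ∀ e : E, ∃ v : Option ι → A,
      mkE e = mkE (algebraMap A E (v none) + ∑ x, algebraMap A E (v (some x)) * k x) := by
    intro e
    have he : mkE e ∈ Algebra.adjoin (A ⧸ I) (t : Set (E ⧸ I.map (algebraMap A E))) :=
      ht ▸ Algebra.mem_top
    obtain ⟨z, hz⟩ : ∃ z, z = mkE e := ⟨_, rfl⟩
    rw [← hz] at he ⊢
    clear hz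
    induction he using Algebra.adjoin_induction with
    | mem x hx =>
      refine ⟨fun o => o.elim (al ⟨x, hx⟩) fun y => if y = ⟨x, hx⟩ then 1 else 0, ?_⟩
      rw [Finset.sum_eq_single (⟨x, hx⟩ : ι) (fun y _ hy => by simp [hy]) (by simp)]
      simp [k, mkE]
      exact (hlft ⟨x, hx⟩).symm
    | algebraMap r =>
      obtain ⟨r, rfl⟩ := Ideal.Quotient.mk_surjective r
      exact ⟨fun o => o.elim r fun _ => 0, by simp [halg]⟩
    | add _ _ _ _ h h' =>
      obtain ⟨v, rfl⟩ := h
      obtain ⟨v', rfl⟩ := h'
      refine ⟨v + v', ?_⟩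
      rw [← map_add]
      congr 1
      simp only [Pi.add_apply, map_add, add_mul, Finset.sum_add_distrib]
      ring
    | mul _ _ _ _ h h' =>
      obtain ⟨v, rfl⟩ := h
      obtain ⟨v', rfl⟩ := h'
      refine ⟨fun o => o.elim (v none * v' none) fun x => v none * v' (some x) + v' none * v (some x), ?_⟩
      rw [← map_mul]
      congr 1
      have h0 : (∑ x, algebraMap A E (v (some x)) * k x) * (∑ x, algebraMap A E (v' (some x)) * k x) = 0 :=
        hNN _ (N.sum_mem fun x _ => N.mul_mem_left _ (hal x)) _ (N.sum_mem fun x _ => N.mul_mem_left _ (hal x))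
      simp only [Option.elim_none, Option.elim_some, map_mul, map_add, add_mul, Finset.sum_add_distrib,
        mul_assoc, ← Finset.mul_sum]
      linear_combination h0
  have hφs : Function.Surjective φ := fun z => by
    obtain ⟨e, rfl⟩ := Ideal.Quotient.mk_surjective z
    obtain ⟨v, hv⟩ := hspan e
    exact ⟨_, (hφval v).trans hv.symm⟩
  haveI : Module.Finite (A ⧸ I) (E ⧸ I.map (algebraMap A E)) := Module.Finite.of_surjective φ hφs
  haveI := Module.FinitePresentation.of_finite_of_finitePresentation (A ⧸ I) (E ⧸ I.map (algebraMap A E))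
  obtain ⟨R, hR⟩ := Module.FinitePresentation.fg_ker φ hφs
  let κ := {x // x ∈ R}
  choose rel hrel using fun (l : κ) (o : Option ι) => Ideal.Quotient.mk_surjective ((l : Option ι → A ⧸ I) o)
  -- normalised relations
  have hrel0 : ∀ l : κ, ∃ e ∈ I, ∑ x, algebraMap A E (rel l (some x)) * k x = algebraMap A E e := by
    intro l
    have h : φ (l : Option ι → A ⧸ I) = 0 := by
      rw [← LinearMap.mem_ker, ← hR]; exact Submodule.subset_span l.2
    rw [show (l : Option ι → A ⧸ I) = fun o => Ideal.Quotient.mk I (rel l o) from funext fun o => (hrel l o).symm,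
      hφval] at h
    obtain ⟨i, hi, hi'⟩ := hIE _ (Ideal.Quotient.eq_zero_iff_mem.1 h)
    have h0 : rel l none ∈ I := (hbase _).1 (by
      have hsum : ∑ x, algebraMap A E (rel l (some x)) * k x ∈ N := N.sum_mem fun x _ => N.mul_mem_left _ (hal x)
      have := N.sub_mem (hIN i hi) hsum
      rwa [hi', add_sub_cancel_right] at this)
    exact ⟨i - rel l none, sub_mem hi h0, by rw [map_sub, hi']; ring⟩
  choose ev hev hev' using hrel0
  -- injectivity
  have hinj : ∀ a : A, algebraMap A E a = 0 → a = 0 := by
    intro a ha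
    by_contra hne
    have hann : (Submodule.span A {a}).annihilator ≠ ⊤ := fun h => hne (by
      have := (Submodule.mem_annihilator.mp ((Ideal.eq_top_iff_one _).mp h)) a
        (Submodule.mem_span_singleton_self a)
      simpa using this)
    obtain ⟨p, hp, hap⟩ := Ideal.exists_le_maximal _ hann
    obtain ⟨g, hgp, ψ, -⟩ := hloc p hp.isPrime
    have h0 : algebraMap A (Localization.Away g) a = 0 := by rw [← ψ.commutes, ha, map_zero]
    obtain ⟨⟨_, n, rfl⟩, hn⟩ := (IsLocalization.map_eq_zero_iff (Submonoid.powers g) (Localization.Away g) a).mp h0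
    refine hgp (hp.isPrime.mem_of_pow_mem n (hap ?_))
    rw [Submodule.mem_annihilator_span_singleton]
    exact hn
  -- solving the linear system
  let G : Ideal A :=
    { carrier := {a | ∃ c : ι → A, (∀ x, c x ∈ I) ∧ ∀ l, ∑ x, rel l (some x) * c x = a * ev l}
      add_mem' := fun {a b} ⟨c, h1, h2⟩ ⟨d, h3, h4⟩ => ⟨c + d, fun x => add_mem (h1 x) (h3 x), fun l => by
        simp only [Pi.add_apply, mul_add, Finset.sum_add_distrib, h2, h4, add_mul]⟩
      zero_mem' := ⟨0, fun _ => zero_mem _, fun l => by simp⟩
      smul_mem' := fun a b ⟨c, h1, h2⟩ => ⟨fun x => a * c x, fun x => I.mul_mem_left _ (h1 x), fun l => by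
        rw [smul_eq_mul, mul_assoc, ← h2, Finset.mul_sum]
        exact Finset.sum_congr rfl fun x _ => by ring⟩ }
  have hG : G = ⊤ := by
    by_contra hne
    obtain ⟨p, hp, hGp⟩ := Ideal.exists_le_maximal _ hne
    obtain ⟨g, hgp, ψ, hψ⟩ := hloc p hp.isPrime
    have hc : ∀ x, ∃ (c : A) (n : ℕ), c ∈ I ∧
        ψ (k x) * algebraMap A (Localization.Away g) (g ^ n) = algebraMap A (Localization.Away g) c := by
      intro x
      obtain ⟨⟨⟨c, hc⟩, ⟨_, n, rfl⟩⟩, h⟩ :=
        (IsLocalization.mem_map_algebraMap_iff (Submonoid.powers g) (Localization.Away g)).1 (hψ _ (hal x))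
      exact ⟨c, n, hc, h⟩
    choose c n hc1 hc2 using hc
    let n₀ := ∑ x, n x
    let c' : ι → A := fun x => g ^ (n₀ - n x) * c x
    have hc' : ∀ x, algebraMap A (Localization.Away g) (c' x) =
        algebraMap A (Localization.Away g) (g ^ n₀) * ψ (k x) := fun x => by
      have : n x ≤ n₀ := Finset.single_le_sum (fun y _ => Nat.zero_le (n y)) (Finset.mem_univ x)
      rw [map_mul, ← hc2, mul_comm (ψ (k x)), ← mul_assoc, ← map_mul, ← pow_add, Nat.sub_add_cancel this]
    have hl : ∀ l, algebraMap A (Localization.Away g) (∑ x, rel l (some x) * c' x) =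
        algebraMap A (Localization.Away g) (g ^ n₀ * ev l) := fun l => by
      have h := congrArg ψ (hev' l)
      rw [map_sum, AlgHom.commutes] at h
      rw [map_mul, ← h, Finset.mul_sum, map_sum]
      refine Finset.sum_congr rfl fun x _ => ?_
      rw [map_mul, hc', map_mul, AlgHom.commutes]
      ring
    choose m hm using fun l => (IsLocalization.eq_iff_exists (Submonoid.powers g) (Localization.Away g)).1 (hl l)
    choose m' hm' using fun l => (m l).2
    let m₀ := ∑ l, m' l
    refine hgp (hp.isPrime.mem_of_pow_mem (m₀ + n₀) (hGp ⟨fun x => g ^ m₀ * c' x,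
      fun x => I.mul_mem_left _ (I.mul_mem_left _ (hc1 x)), fun l => ?_⟩))
    have : m' l ≤ m₀ := Finset.single_le_sum (fun y _ => Nat.zero_le (m' y)) (Finset.mem_univ l)
    obtain ⟨d, hd⟩ := Nat.le.dest this
    have := hm l
    rw [← hm' l] at this
    calc ∑ x, rel l (some x) * (g ^ m₀ * c' x) = g ^ d * (g ^ m' l * ∑ x, rel l (some x) * c' x) := by
          rw [Finset.mul_sum, Finset.mul_sum]
          exact Finset.sum_congr rfl fun x _ => by rw [← hd, pow_add]; ring
      _ = g ^ (m₀ + n₀) * ev l := by rw [this, ← hd]; ring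
  obtain ⟨c, hcI, hc⟩ : (1 : A) ∈ G := hG ▸ Submodule.mem_top
  simp only [one_mul] at hc
  -- the map
  have hval : ∀ e : E, ∃ v : Option ι → A, e = algebraMap A E (v none) + ∑ x, algebraMap A E (v (some x)) * k x := by
    intro e
    obtain ⟨v, hv⟩ := hspan e
    obtain ⟨i, hi, hi'⟩ := hIE _ (Ideal.Quotient.eq.1 hv)
    refine ⟨fun o => o.elim (v none + i) fun x => v (some x), ?_⟩
    simp only [Option.elim_none, Option.elim_some, map_add, hi']
    ring
  let ev' : (Option ι → A) → A := fun v => v none + ∑ x, v (some x) * c x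
  have hzero : ∀ v : Option ι → A, algebraMap A E (v none) + ∑ x, algebraMap A E (v (some x)) * k x = 0 →
      ev' v = 0 := by
    intro v hv
    have hker : (fun o => Ideal.Quotient.mk I (v o)) ∈ Submodule.span (A ⧸ I) (R : Set (Option ι → A ⧸ I)) := by
      rw [hR, LinearMap.mem_ker, hφval, hv, map_zero]
    rw [show (R : Set (Option ι → A ⧸ I)) = Set.range (fun l : κ => (l : Option ι → A ⧸ I)) from
      Subtype.range_coe.symm, Submodule.mem_span_range_iff_exists_fun] at hker
    obtain ⟨ub, hub⟩ := hker
    choose w hw using fun l : κ => Ideal.Quotient.mk_surjective (ub l)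
    let d : Option ι → A := fun o => v o - ∑ l, w l * rel l o
    have hd : ∀ o, d o ∈ I := fun o => by
      rw [← Ideal.Quotient.eq_zero_iff_mem]
      have := congrFun hub o
      simp only [Finset.sum_apply, Pi.smul_apply, smul_eq_mul] at this
      simp only [d, map_sub, map_sum, map_mul, hrel, hw, this, sub_self]
    have hv' : ∀ o, v o = d o + ∑ l, w l * rel l o := fun o => by simp [d]
    have hdk : ∑ x, algebraMap A E (d (some x)) * k x = 0 :=
      Finset.sum_eq_zero fun x _ => hNN _ (hIN _ (hd _)) _ (hal x)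
    have h1 : algebraMap A E (d none + ∑ l, w l * (rel l none + ev l)) = 0 := by
      rw [← hv]
      simp only [hv', map_add, map_sum, map_mul, add_mul, Finset.sum_mul, Finset.sum_add_distrib, mul_add,
        hdk, ← hev']
      rw [Finset.sum_comm]
      simp only [Finset.mul_sum, mul_assoc]
      ring
    have h2 := hinj _ h1
    have hdc : ∑ x, d (some x) * c x = 0 := Finset.sum_eq_zero fun x _ => hII _ (hd _) _ (hcI x)
    rw [← h2]
    simp only [ev', hv', add_mul, Finset.sum_mul, Finset.sum_add_distrib, mul_add, hdc, ← hc]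
    rw [Finset.sum_comm]
    simp only [Finset.mul_sum, mul_assoc]
    ring
  choose V hV using hval
  let r0 : E → A := fun e => ev' (V e)
  have hr0 : ∀ (e : E) (v : Option ι → A),
      e = algebraMap A E (v none) + ∑ x, algebraMap A E (v (some x)) * k x → r0 e = ev' v := by
    intro e v hv
    rw [← sub_eq_zero]
    have h0 := hzero (V e - v) (by
      simp only [Pi.sub_apply, map_sub, sub_mul, Finset.sum_sub_distrib]
      linear_combination hv - hV e)
    simp only [ev', Pi.sub_apply, sub_mul, Finset.sum_sub_distrib] at h0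
    simp only [r0, ev']
    linear_combination h0
  have hcomm : ∀ a, r0 (algebraMap A E a) = a := fun a => by
    rw [hr0 _ (fun o => o.elim a fun _ => 0) (by simp)]
    simp [ev']
  let r : E →ₐ[A] A :=
    { toFun := r0
      map_one' := by simpa using hcomm 1
      map_zero' := by simpa using hcomm 0
      map_add' := fun x y => by
        rw [hr0 (x + y) (V x + V y) (by
          simp only [Pi.add_apply, map_add, add_mul, Finset.sum_add_distrib]
          linear_combination hV x + hV y)]
        simp only [r0, ev', Pi.add_apply, add_mul, Finset.sum_add_distrib]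
        ring
      map_mul' := fun x y => by
        rw [hr0 (x * y) (fun o => o.elim (V x none * V y none)
          fun z => V x none * V y (some z) + V y none * V x (some z)) (by
          have h0 : (∑ z, algebraMap A E (V x (some z)) * k z) * (∑ z, algebraMap A E (V y (some z)) * k z) = 0 :=
            hNN _ (N.sum_mem fun z _ => N.mul_mem_left _ (hal z)) _ (N.sum_mem fun z _ => N.mul_mem_left _ (hal z))
          conv_lhs => rw [hV x, hV y]
          simp only [Option.elim_none, Option.elim_some, map_mul, map_add, add_mul, Finset.sum_add_distrib,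
            mul_assoc, ← Finset.mul_sum]
          linear_combination h0)]
        have h0 : (∑ z, V x (some z) * c z) * (∑ z, V y (some z) * c z) = 0 :=
          hII _ (I.sum_mem fun z _ => I.mul_mem_left _ (hcI z)) _ (I.sum_mem fun z _ => I.mul_mem_left _ (hcI z))
        simp only [r0, ev', Option.elim_none, Option.elim_some, add_mul, Finset.sum_add_distrib, mul_assoc,
          ← Finset.mul_sum]
        linear_combination -h0
      commutes' := hcomm }
  refine ⟨r, fun e => ?_⟩
  show e - algebraMap A E (r0 e) ∈ N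
  have : e - algebraMap A E (r0 e) =
      (∑ x, algebraMap A E (V e (some x)) * k x) - algebraMap A E (∑ x, V e (some x) * c x) := by
    simp only [r0, ev', map_add]
    linear_combination hV e
  rw [this]
  exact N.sub_mem (N.sum_mem fun x _ => N.mul_mem_left _ (hal x))
    (hIN _ (I.sum_mem fun x _ => I.mul_mem_left _ (hcI x)))

end Groth.Agent.Lift56
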