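import Groth.Agent.Lift56.Alg
import Groth.Agent.FlatMor67.SmoothLift
import Groth.Agent.EGA4Alg4.TopRows
import Groth.Agent.SchBasics.FPCancel

/-! Global lifts along square-zero thickenings of affine schemes from local ones. -/

set_option autoImplicit false
set_option linter.style.haveILetI false
set_option backward.isDefEq.respectTransparency.types false

universe u

namespace Groth.Agent.Lift56

open AlgebraicGeometry CategoryTheory Limits Scheme
open Groth.Agent.FlatMor67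

lemma spec_sqzero {R R' : Type u} [CommRing R] [CommRing R'] (φ : R →+* R') (hφ : Function.Surjective φ)
    (h2 : ∀ x y, φ x = 0 → φ y = 0 → x * y = 0) :
    IsClosedImmersion (Spec.map (CommRingCat.ofHom φ)) ∧ Surjective (Spec.map (CommRingCat.ofHom φ)) ∧
      (Spec.map (CommRingCat.ofHom φ)).ker * (Spec.map (CommRingCat.ofHom φ)).ker = ⊥ := by
  have hc : IsClosedImmersion (Spec.map (CommRingCat.ofHom φ)) := IsClosedImmersion.spec_of_surjective _ hφ
  refine ⟨hc, ⟨fun (q : PrimeSpectrum R) => ?_⟩, ?_⟩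
  · have hq : q ∈ Set.range (PrimeSpectrum.comap φ) := by
      rw [range_comap_of_surjective _ φ hφ, PrimeSpectrum.mem_zeroLocus]
      intro x hx
      have : x * x ∈ q.asIdeal := by rw [h2 x x hx hx]; exact zero_mem _
      exact (q.isPrime.mem_or_mem this).elim id id
    exact hq
  · refine IdealSheafData.ext_of_isAffine ?_
    rw [IdealSheafData.ideal_mul, Pi.mul_apply, Hom.ker_apply]
    change _ = (⊥ : Ideal _)
    have hbij := ConcreteCategory.bijective_of_isIso (Scheme.ΓSpecIso (CommRingCat.of R)).hom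
    rw [eq_bot_iff, Ideal.mul_le]
    intro c hc c' hc'
    have h3 : ∀ d, (Spec.map (CommRingCat.ofHom φ)).app ⊤ d = 0 →
        φ ((Scheme.ΓSpecIso (CommRingCat.of R)).hom d) = 0 := fun d hd =>
      ((congr($(Scheme.ΓSpecIso_naturality (CommRingCat.ofHom φ)) d)).symm).trans
        (SmoothLift.hom_apply_eq_zero (Scheme.ΓSpecIso _).hom hd)
    rw [Ideal.mem_bot]
    apply hbij.1
    rw [map_mul, map_zero]
    exact h2 _ _ (h3 c hc) (h3 c' hc')

/-- First order neighbourhood of a section of a morphism locally of finite presentation. -/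
theorem exists_nbhd_lfp {T P : Scheme.{u}} (σ : T ⟶ P) [IsImmersion σ] (q : P ⟶ T)
    [LocallyOfFinitePresentation q] (hq : σ ≫ q = 𝟙 T) :
    ∃ (Z : Scheme.{u}) (ι : Z ⟶ P) (j1 : T ⟶ Z), IsImmersion ι ∧ IsClosedImmersion j1 ∧
      Surjective j1 ∧ j1 ≫ ι = σ ∧ j1.ker * j1.ker = ⊥ ∧ LocallyOfFinitePresentation (ι ≫ q) ∧
      ∀ {S S' : Scheme.{u}} (k : S ⟶ S') (_ : IsClosedImmersion k) (_ : Surjective k)
        (u : S ⟶ T) (z : S' ⟶ P),
        k.ker * k.ker = ⊥ → k ≫ z = u ≫ σ → ∃ ψ : S' ⟶ Z, ψ ≫ ι = z := by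
  obtain ⟨Zo, j, o, _, _, rfl⟩ : ∃ (Zo : Scheme.{u}) (j : T ⟶ Zo) (o : Zo ⟶ P),
      IsClosedImmersion j ∧ IsOpenImmersion o ∧ j ≫ o = σ :=
    ⟨_, σ.liftCoborder, σ.coborderRange.ι, inferInstance, inferInstance, σ.liftCoborder_ι⟩
  obtain ⟨Z1, ι1, _, hι⟩ : ∃ (Z1 : Scheme.{u}) (ι1 : Z1 ⟶ Zo),
      IsClosedImmersion ι1 ∧ ι1.ker = j.ker ^ 2 :=
    ⟨_, (j.ker ^ 2).subschemeι, inferInstance, IdealSheafData.ker_subschemeι _⟩
  obtain ⟨j1, _, _, hj1, hJ1⟩ := SmoothLift.sqNbhd_aux j ι1 hι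
  have hjlfp : LocallyOfFinitePresentation j := by
    have : LocallyOfFinitePresentation (j ≫ o ≫ q) := by
      rw [← Category.assoc, hq]; infer_instance
    exact SchBasics.locallyOfFinitePresentation_of_comp j (o ≫ q)
  have hι1lfp : LocallyOfFinitePresentation ι1 := by
    rw [EGA4Alg4.Top13.lfp_iff_ker_fg]
    intro U
    rw [← Scheme.Hom.ker_apply, hι, IdealSheafData.ideal_pow, Pi.pow_apply, sq, Scheme.Hom.ker_apply]
    exact Submodule.FG.mul ((EGA4Alg4.Top13.lfp_iff_ker_fg j).1 hjlfp U)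
      ((EGA4Alg4.Top13.lfp_iff_ker_fg j).1 hjlfp U)
  refine ⟨Z1, ι1 ≫ o, j1, inferInstance, inferInstance, inferInstance,
    by rw [reassoc_of% hj1], hJ1, inferInstance, fun {S S'} k hk hk' u z hker hz => ?_⟩
  haveI := hk
  haveI := hk'
  have hzr : Set.range z ⊆ Set.range o := by
    rintro _ ⟨q, rfl⟩
    obtain ⟨q, rfl⟩ := k.surjective q
    refine ⟨j (u q), ?_⟩
    show (u ≫ j ≫ o) q = (k ≫ z) q
    rw [hz]
  let zo := IsOpenImmersion.lift o z hzr
  have hzo : zo ≫ o = z := IsOpenImmersion.lift_fac _ _ _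
  have hJle : ι1.ker ≤ zo.ker := hι ▸ SmoothLift.sq_le_ker j k hker u zo (by
    rw [← cancel_mono o]
    simp only [Category.assoc, hzo, hz])
  exact ⟨IsClosedImmersion.lift ι1 zo hJle, by rw [IsClosedImmersion.lift_fac_assoc, hzo]⟩

theorem exists_lift_spec {A : Type u} [CommRing A] {I : Ideal A} (hI : I ^ 2 = ⊥)
    {X Y : Scheme.{u}} {f : X ⟶ Y} [LocallyOfFinitePresentation f]
    {a : Spec (CommRingCat.of (A ⧸ I)) ⟶ X} {b : Spec (CommRingCat.of A) ⟶ Y}
    (w : Spec.map (CommRingCat.ofHom (Ideal.Quotient.mk I)) ≫ b = a ≫ f)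
    (hloc : ∀ y : Spec (CommRingCat.of A), ∃ W : (Spec (CommRingCat.of A)).Opens, y ∈ W ∧
      ∃ l : (W : Scheme.{u}) ⟶ X, l ≫ f = W.ι ≫ b ∧
        (Spec.map (CommRingCat.ofHom (Ideal.Quotient.mk I)) ∣_ W) ≫ l =
          (Spec.map (CommRingCat.ofHom (Ideal.Quotient.mk I)) ⁻¹ᵁ W).ι ≫ a) :
    ∃ l : Spec (CommRingCat.of A) ⟶ X,
      Spec.map (CommRingCat.ofHom (Ideal.Quotient.mk I)) ≫ l = a ∧ l ≫ f = b := by
  set φA : CommRingCat.of A ⟶ CommRingCat.of (A ⧸ I) := CommRingCat.ofHom (Ideal.Quotient.mk I)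
  set t := Spec.map φA with ht
  haveI : IsClosedImmersion t := IsClosedImmersion.spec_of_surjective _ Ideal.Quotient.mk_surjective
  haveI : Surjective t := specMk_surjective ⟨2, hI⟩
  let σ := pullback.lift a t w.symm
  haveI : IsImmersion (σ ≫ pullback.snd f b) := by rw [pullback.lift_snd]; infer_instance
  haveI : IsImmersion σ := IsImmersion.of_comp σ (pullback.snd f b)
  obtain ⟨Z1, ι, j1, _, _, _, hj1σ, hJ1, hfac1⟩ := SmoothLift.exists_firstOrderNbhd σ
  have hj1π : j1 ≫ ι ≫ pullback.snd f b = t := by rw [reassoc_of% hj1σ, pullback.lift_snd]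
  have hj1x : j1 ≫ ι ≫ pullback.fst f b = a := by rw [reassoc_of% hj1σ, pullback.lift_fst]
  haveI : IsAffine Z1 := SmoothLift.isAffine_nbhd hI w hj1π hj1x
  let π : Z1 ⟶ Spec (CommRingCat.of A) := ι ≫ pullback.snd f b
  -- the algebra
  letI : Algebra A Γ(Z1, ⊤) := ((Scheme.ΓSpecIso (CommRingCat.of A)).inv ≫ π.appTop).hom.toAlgebra
  have hπ : π = Z1.isoSpec.hom ≫ Spec.map (CommRingCat.ofHom (algebraMap A Γ(Z1, ⊤))) := by
    show π = Z1.toSpecΓ ≫ Spec.map ((Scheme.ΓSpecIso (CommRingCat.of A)).inv ≫ π.appTop)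
    rw [Spec.map_comp, ← Scheme.toSpecΓ_naturality_assoc, toSpecΓ_SpecMap_ΓSpecIso_inv,
      Category.comp_id]
  let ε : Γ(Z1, ⊤) →+* A ⧸ I := (j1.appTop ≫ (Scheme.ΓSpecIso (CommRingCat.of (A ⧸ I))).hom).hom
  have hεalg : ∀ r : A, ε (algebraMap A Γ(Z1, ⊤) r) = Ideal.Quotient.mk I r := by
    intro r
    have h1 : π.appTop ≫ j1.appTop = t.appTop := by rw [← Hom.comp_appTop, hj1π]
    have h2 := congr($(Scheme.ΓSpecIso_inv_naturality φA) r)
    have h3 : j1.appTop (algebraMap A Γ(Z1, ⊤) r) =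
        (Scheme.ΓSpecIso (CommRingCat.of (A ⧸ I))).inv (Ideal.Quotient.mk I r) :=
      (congr($h1 ((Scheme.ΓSpecIso (CommRingCat.of A)).inv r))).trans h2.symm
    show (Scheme.ΓSpecIso (CommRingCat.of (A ⧸ I))).hom (j1.appTop _) = _
    rw [h3]
    exact (Scheme.ΓSpecIso (CommRingCat.of (A ⧸ I))).inv_hom_id_apply _
  have hεs : Function.Surjective ε :=
    (ConcreteCategory.bijective_of_isIso (Scheme.ΓSpecIso (CommRingCat.of (A ⧸ I))).hom).2.comp
      (j1.app_surjective ⊤ (isAffineOpen_top Z1))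
  let N : Ideal Γ(Z1, ⊤) := RingHom.ker ε
  have hs : ∀ e, ∃ r : A, e - algebraMap A Γ(Z1, ⊤) r ∈ N := fun e => by
    obtain ⟨r, hr⟩ := Ideal.Quotient.mk_surjective (ε e)
    exact ⟨r, by rw [RingHom.mem_ker, map_sub, hεalg, hr, sub_self]⟩
  have hbase : ∀ r : A, algebraMap A Γ(Z1, ⊤) r ∈ N ↔ r ∈ I := fun r => by
    rw [RingHom.mem_ker, hεalg, Ideal.Quotient.eq_zero_iff_mem]
  have hNker : ∀ e ∈ N, j1.appTop e = 0 := fun e he => by
    apply (ConcreteCategory.bijective_of_isIso (Scheme.ΓSpecIso (CommRingCat.of (A ⧸ I))).hom).1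
    rw [map_zero]
    exact he
  have hN2 : N ^ 2 = ⊥ := by
    have := congr(($hJ1).ideal ⟨⊤, isAffineOpen_top Z1⟩)
    rw [IdealSheafData.ideal_mul, Pi.mul_apply, Hom.ker_apply] at this
    rw [eq_bot_iff, sq]
    exact (Ideal.mul_mono hNker hNker).trans this.le
  have hj1iso : Spec.map (CommRingCat.ofHom ε) ≫ Z1.isoSpec.inv = j1 := by
    rw [Iso.comp_inv_eq, Scheme.isoSpec_hom, Scheme.toSpecΓ_naturality,
      show (Spec (CommRingCat.of (A ⧸ I))).toSpecΓ =
        Spec.map (Scheme.ΓSpecIso (CommRingCat.of (A ⧸ I))).hom from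
          (SpecMap_ΓSpecIso_hom _).symm, ← Spec.map_comp]
    rfl
  -- the reduction modulo `I`
  have hfp : (Ideal.quotientMap (I.map (algebraMap A Γ(Z1, ⊤))) (algebraMap A Γ(Z1, ⊤))
      Ideal.le_comap_map).FinitePresentation := by
    set IE := I.map (algebraMap A Γ(Z1, ⊤))
    set q₁ : A ⧸ I →+* Γ(Z1, ⊤) ⧸ IE := Ideal.quotientMap IE (algebraMap A Γ(Z1, ⊤)) Ideal.le_comap_map
    let mkI : Spec (CommRingCat.of (Γ(Z1, ⊤) ⧸ IE)) ⟶ Spec Γ(Z1, ⊤) :=
      Spec.map (CommRingCat.ofHom (Ideal.Quotient.mk IE))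
    haveI : IsClosedImmersion mkI := IsClosedImmersion.spec_of_surjective _ Ideal.Quotient.mk_surjective
    let c : Spec (CommRingCat.of (Γ(Z1, ⊤) ⧸ IE)) ⟶ Z1 := mkI ≫ Z1.isoSpec.inv
    let π₀ : Spec (CommRingCat.of (Γ(Z1, ⊤) ⧸ IE)) ⟶ Spec (CommRingCat.of (A ⧸ I)) :=
      Spec.map (CommRingCat.ofHom q₁)
    have hcπ : c ≫ π = π₀ ≫ t := by
      simp only [c, hπ, Category.assoc, Iso.inv_hom_id_assoc, mkI, π₀, ht, ← Spec.map_comp]
      rfl
    let q₀ := pullback.snd (pullback.snd f b) t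
    haveI : LocallyOfFinitePresentation q₀ :=
      MorphismProperty.pullback_snd _ _ (MorphismProperty.pullback_snd _ _ ‹_›)
    let σ₀ := pullback.lift σ (𝟙 (Spec (CommRingCat.of (A ⧸ I))))
      (by rw [Category.id_comp]; exact pullback.lift_snd _ _ _ :
        σ ≫ pullback.snd f b = 𝟙 _ ≫ t)
    have hσ₀ : σ₀ ≫ q₀ = 𝟙 _ := pullback.lift_snd _ _ _
    haveI : IsImmersion (σ₀ ≫ q₀) := by rw [hσ₀]; infer_instance
    haveI : IsImmersion σ₀ := IsImmersion.of_comp σ₀ q₀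
    obtain ⟨Z0, ι0, j0, _, hj0c, hj0s, hj0σ, hJ0, hlfp, hfac0⟩ := exists_nbhd_lfp σ₀ q₀ hσ₀
    let z0 : Spec (CommRingCat.of (Γ(Z1, ⊤) ⧸ IE)) ⟶ pullback (pullback.snd f b) t :=
      pullback.lift (c ≫ ι) π₀ (by rw [Category.assoc]; exact hcπ)
    haveI : Mono z0 := mono_of_mono_fac (show z0 ≫ pullback.fst _ _ = c ≫ ι from pullback.lift_fst _ _ _)
    -- the thickening `Spec (A ⧸ I) ⟶ Spec (E ⧸ IE)`
    have hεIE : ∀ x ∈ IE, ε x = 0 := fun x hx => by
      refine (Ideal.map_le_iff_le_comap.2 (fun i hi => ?_) hx : x ∈ N)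
      exact (hbase i).2 hi
    let ε₀ : Γ(Z1, ⊤) ⧸ IE →+* A ⧸ I := Ideal.Quotient.lift IE ε hεIE
    obtain ⟨hk0, hk0', hk0''⟩ := spec_sqzero ε₀ (fun z => by
        obtain ⟨e, he⟩ := hεs z
        exact ⟨Ideal.Quotient.mk IE e, he⟩) (fun x y hx hy => by
        obtain ⟨x, rfl⟩ := Ideal.Quotient.mk_surjective x
        obtain ⟨y, rfl⟩ := Ideal.Quotient.mk_surjective y
        have : x * y ∈ N ^ 2 := by rw [sq]; exact Ideal.mul_mem_mul hx hy
        rw [hN2, Ideal.mem_bot] at this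
        rw [← map_mul, this, map_zero])
    obtain ⟨φ, hφ⟩ := hfac0 (Spec.map (CommRingCat.ofHom ε₀)) hk0 hk0' (𝟙 _) z0 hk0'' (by
      rw [Category.id_comp]
      refine pullback.hom_ext ?_ ?_
      · rw [Category.assoc, pullback.lift_fst, pullback.lift_fst]
        simp only [c, mkI, Category.assoc, ← Spec.map_comp_assoc]
        show Spec.map (CommRingCat.ofHom ε) ≫ _ = _
        rw [reassoc_of% hj1iso, hj1σ]
      · rw [Category.assoc, pullback.lift_snd, pullback.lift_snd]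
        simp only [π₀, ← Spec.map_comp]
        rw [← Spec.map_id]
        congr 1
        ext r
        exact hεalg r)
    obtain ⟨ψ1, hψ1⟩ := hfac1 j0 hj0c hj0s (𝟙 _) (ι0 ≫ pullback.fst _ _) hJ0 (by
      rw [← Category.assoc, hj0σ, pullback.lift_fst, Category.id_comp])
    have hψ1π : ψ1 ≫ π = (ι0 ≫ q₀) ≫ t := by
      simp only [π, reassoc_of% hψ1, q₀, Category.assoc, pullback.condition]
    let β : Γ(Z1, ⊤) →+* Γ(Z0, ⊤) := ψ1.appTop.hom
    have hβ : ∀ x ∈ IE, β x = 0 := fun x hx => by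
      refine (Ideal.map_le_iff_le_comap.2 (fun i hi => ?_) hx : x ∈ RingHom.ker β)
      show ψ1.appTop (π.appTop ((Scheme.ΓSpecIso (CommRingCat.of A)).inv i)) = 0
      have h1 : π.appTop ≫ ψ1.appTop = t.appTop ≫ (ι0 ≫ q₀).appTop := by
        rw [← Hom.comp_appTop, hψ1π, Hom.comp_appTop]
      refine (congr($h1 ((Scheme.ΓSpecIso (CommRingCat.of A)).inv i))).trans ?_
      refine SmoothLift.hom_apply_eq_zero (ι0 ≫ q₀).appTop ?_
      refine (congr($(Scheme.ΓSpecIso_inv_naturality φA) i)).symm.trans ?_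
      exact SmoothLift.hom_apply_eq_zero (Scheme.ΓSpecIso (CommRingCat.of (A ⧸ I))).inv
        (Ideal.Quotient.eq_zero_iff_mem.2 hi)
    let ψ0 : Z0 ⟶ Spec (CommRingCat.of (Γ(Z1, ⊤) ⧸ IE)) :=
      Z0.toSpecΓ ≫ Spec.map (CommRingCat.ofHom (Ideal.Quotient.lift IE β hβ))
    have hψ0c : ψ0 ≫ c = ψ1 := by
      simp only [ψ0, c, mkI, Category.assoc, ← Spec.map_comp_assoc]
      show Z0.toSpecΓ ≫ Spec.map ψ1.appTop ≫ _ = _
      rw [← Scheme.toSpecΓ_naturality_assoc, ← Scheme.isoSpec_hom, Iso.hom_inv_id, Category.comp_id]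
    have hψ0π : ψ0 ≫ π₀ = ι0 ≫ q₀ := by
      rw [← cancel_mono t, Category.assoc, ← hcπ, reassoc_of% hψ0c, hψ1π]
    have hψ0z : ψ0 ≫ z0 = ι0 := by
      refine pullback.hom_ext ?_ ?_
      · rw [Category.assoc, pullback.lift_fst, reassoc_of% hψ0c, hψ1]
      · rw [Category.assoc, pullback.lift_snd, hψ0π]
    have h1 : φ ≫ ψ0 = 𝟙 _ := by rw [← cancel_mono z0, Category.assoc, hψ0z, hφ, Category.id_comp]
    have h2 : ψ0 ≫ φ = 𝟙 _ := by rw [← cancel_mono ι0, Category.assoc, hφ, hψ0z, Category.id_comp]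
    haveI : IsIso φ := ⟨ψ0, h1, h2⟩
    have hπ₀ : π₀ = φ ≫ ι0 ≫ q₀ := by rw [← hψ0π, ← Category.assoc, h1, Category.id_comp]
    have hfp' : LocallyOfFinitePresentation π₀ := by rw [hπ₀]; infer_instance
    exact (HasRingHomProperty.Spec_iff (P := @LocallyOfFinitePresentation)).1 hfp'
  -- local retractions
  have hret : ∀ p : Ideal A, p.IsPrime → ∃ g : A, g ∉ p ∧ RetractsAt I N g := by
    intro p hp
    obtain ⟨W, hyW, l, hl, hl'⟩ := hloc (⟨p, hp⟩ : PrimeSpectrum A)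
    obtain ⟨_, ⟨g, rfl⟩, hpg, hgW⟩ := PrimeSpectrum.isTopologicalBasis_basic_opens.exists_subset_of_mem_open
      hyW W.isOpen
    refine ⟨g, hpg, ?_⟩
    set B := Localization.Away g
    set L : Ideal B := I.map (algebraMap A B)
    let loc : Spec (CommRingCat.of B) ⟶ Spec (CommRingCat.of A) := Spec.map (CommRingCat.ofHom (algebraMap A B))
    have hrange : Set.range loc ⊆ Set.range W.ι := by
      rintro _ ⟨v, rfl⟩
      rw [Scheme.Opens.range_ι]
      refine hgW fun hv => ?_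
      exact v.isPrime.ne_top (v.asIdeal.eq_top_of_isUnit_mem hv (IsLocalization.Away.algebraMap_isUnit g))
    let e := IsOpenImmersion.lift W.ι loc hrange
    have he : e ≫ W.ι = loc := IsOpenImmersion.lift_fac _ _ _
    let mL : Spec (CommRingCat.of (B ⧸ L)) ⟶ Spec (CommRingCat.of B) :=
      Spec.map (CommRingCat.ofHom (Ideal.Quotient.mk L))
    obtain ⟨hmL, hmL', hmL''⟩ := spec_sqzero (Ideal.Quotient.mk L) Ideal.Quotient.mk_surjective
      (fun x y hx hy => by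
        have : x * y ∈ L ^ 2 := by
          rw [sq]
          exact Ideal.mul_mem_mul (Ideal.Quotient.eq_zero_iff_mem.1 hx) (Ideal.Quotient.eq_zero_iff_mem.1 hy)
        rwa [← Ideal.map_pow, hI, Ideal.map_bot, Ideal.mem_bot] at this)
    let uq : A ⧸ I →+* B ⧸ L := Ideal.quotientMap L (algebraMap A B) Ideal.le_comap_map
    let uu : Spec (CommRingCat.of (B ⧸ L)) ⟶ Spec (CommRingCat.of (A ⧸ I)) := Spec.map (CommRingCat.ofHom uq)
    have huu : uu ≫ t = mL ≫ loc := by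
      simp only [uu, ht, mL, loc, ← Spec.map_comp]
      rfl
    have hrange' : Set.range uu ⊆ Set.range (t ⁻¹ᵁ W).ι := by
      rintro _ ⟨v, rfl⟩
      rw [Scheme.Opens.range_ι]
      show (uu ≫ t) v ∈ W
      rw [huu, ← he, ← Category.assoc, Scheme.Hom.comp_apply]
      exact Subtype.coe_prop _
    let v := IsOpenImmersion.lift (t ⁻¹ᵁ W).ι uu hrange'
    have hv : v ≫ (t ⁻¹ᵁ W).ι = uu := IsOpenImmersion.lift_fac _ _ _
    have hv' : v ≫ (t ∣_ W) = mL ≫ e := by
      rw [← cancel_mono W.ι, Category.assoc, morphismRestrict_ι, reassoc_of% hv, Category.assoc, he, huu]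
    let zB : Spec (CommRingCat.of B) ⟶ pullback f b :=
      pullback.lift (e ≫ l) loc (by rw [Category.assoc, hl, ← Category.assoc, he])
    have hcond : mL ≫ zB = uu ≫ σ := by
      refine pullback.hom_ext ?_ ?_
      · rw [Category.assoc, pullback.lift_fst, Category.assoc, pullback.lift_fst, ← Category.assoc, ← hv',
          Category.assoc, hl', reassoc_of% hv]
      · rw [Category.assoc, pullback.lift_snd, Category.assoc, pullback.lift_snd, huu]
    obtain ⟨ψ1, hψ1⟩ := hfac1 mL hmL hmL' uu zB hmL'' hcond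
    obtain ⟨ψ, hψ⟩ : ∃ ψ : CommRingCat.of Γ(Z1, ⊤) ⟶ CommRingCat.of B,
        Spec.map ψ = ψ1 ≫ Z1.isoSpec.hom := ⟨Spec.preimage _, Spec.map_preimage _⟩
    have hψπ : CommRingCat.ofHom (algebraMap A Γ(Z1, ⊤)) ≫ ψ =
        CommRingCat.ofHom (algebraMap A B) := by
      apply Spec.map_injective
      rw [Spec.map_comp, hψ, Category.assoc]
      refine (congrArg (ψ1 ≫ ·) hπ.symm).trans ?_
      simp only [π, reassoc_of% hψ1, zB, pullback.lift_snd, loc]
    refine ⟨⟨ψ.hom, fun r => congr($hψπ r)⟩, fun n hn => ?_⟩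
    have key : mL ≫ ψ1 = uu ≫ j1 := by
      rw [← cancel_mono ι, Category.assoc, hψ1, Category.assoc, hj1σ, hcond]
    have key2 : ψ ≫ CommRingCat.ofHom (Ideal.Quotient.mk L) = CommRingCat.ofHom ε ≫ CommRingCat.ofHom uq := by
      apply Spec.map_injective
      rw [Spec.map_comp, Spec.map_comp, hψ, reassoc_of% key, ← hj1iso]
      simp [uu]
    apply Ideal.Quotient.eq_zero_iff_mem.1
    refine (congr($key2 n)).trans ?_
    show uq (ε n) = 0
    rw [show ε n = 0 from hn, map_zero]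
  obtain ⟨r, hr⟩ := exists_retraction I N hs hbase hN2 hI hfp hret
  refine ⟨Spec.map (CommRingCat.ofHom r.toRingHom) ≫ Z1.isoSpec.inv ≫ ι ≫ pullback.fst f b, ?_, ?_⟩
  · rw [← Category.assoc, ht, ← Spec.map_comp]
    have : CommRingCat.ofHom r.toRingHom ≫ φA = CommRingCat.ofHom ε := by
      ext e
      show Ideal.Quotient.mk I (r e) = ε e
      have h := hr e
      rw [RingHom.mem_ker, map_sub, sub_eq_zero, hεalg] at h
      exact h.symm
    rw [this, reassoc_of% hj1iso, hj1x]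
  · simp only [Category.assoc]
    rw [pullback.condition, show ι ≫ pullback.snd f b ≫ b = π ≫ b from (Category.assoc _ _ _).symm, hπ]
    simp only [Category.assoc, Iso.inv_hom_id_assoc, ← Spec.map_comp_assoc]
    rw [show CommRingCat.ofHom (algebraMap A Γ(Z1, ⊤)) ≫ CommRingCat.ofHom r.toRingHom = 𝟙 _ from
      CommRingCat.hom_ext (RingHom.ext fun q => r.commutes q), Spec.map_id, Category.id_comp]

end Groth.Agent.Lift56
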